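import Cfsg.Agent.H745.TF.Def
import Cfsg.Prelude.Def_LieTwisted

/-!
# S5262: the concrete statements

Plan: `outputs/live/tools/plans/S5262.md`.
-/

set_option autoImplicit false
set_option linter.dupNamespace false

namespace Cfsg.Agent.H745.TF

open Cfsg Cfsg.FusionSystem Cfsg.Agent.Octagon.Pkg Cfsg.Agent.H756.PU

universe u v w

namespace TF

section
variable {K : Type u} [Field K] {σ : K →+* K} {U : Type v} [Group U] (T : TF σ U)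

/-- `α` is the automorphism of `U` which acts as `f τ` on `X1` and as `g τ` on `X8` (mod `Z8`) -/
structure IsTor (α : MulAut U) (f g : K) (τ : K ≃+* K) : Prop where
  nf : f ≠ 0
  ng : g ≠ 0
  e1 : ∀ t, α (T.x1 t) = T.x1 (f * τ t)
  e2 : ∀ p u, α (T.x2 p u) = T.x2 (f * g * τ p) (f * g * σ (f * g) * τ u)
  e3 : ∀ t, α (T.x3 t) = T.x3 (f * g * σ (f * g) * g * τ t)
  e4 : ∀ p u, α (T.x4 p u) = T.x4 (σ (f * g) * g * τ p) (σ (f * g) * g * σ (σ (f * g) * g) * τ u)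
  e5 : ∀ t, α (T.x5 t) = T.x5 (f * σ f * g ^ 2 * σ g ^ 2 * τ t)
  e6 : ∀ p u, α (T.x6 p u) = T.x6 (f * g * σ g * τ p) (f * g * σ g * σ (f * g * σ g) * τ u)
  e7 : ∀ t, α (T.x7 t) = T.x7 (f * g ^ 2 * σ g * τ t)
  e8 : ∀ p u, α (T.x8 p u) = T.x8 (g * τ p) (g * σ g * τ u)

/-- the group of all these automorphisms (the closure is the set itself) -/
def TT : Subgroup (MulAut U) := Subgroup.closure {α | ∃ f g τ, T.IsTor α f g τ}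

/-- `γ` is the restriction of `α` to `Q` -/
def IsR {U : Type v} [Group U] (α : MulAut U) {Q : Subgroup U} (γ : MulAut Q) : Prop :=
  ∀ e : Q, ((γ e : Q) : U) = α e

/-- the Weyl element `X_i ↔ X_{8-i}` on `QA` -/
structure IsWa (γ : MulAut T.QA) : Prop where
  e1 : ∀ (e : T.QA) t, (e : U) = T.x1 t → ((γ e : T.QA) : U) = T.x7 t
  e2 : ∀ (e : T.QA) p u, (e : U) = T.x2 p u → ((γ e : T.QA) : U) = T.x6 p u
  e3 : ∀ (e : T.QA) t, (e : U) = T.x3 t → ((γ e : T.QA) : U) = T.x5 t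
  e4 : ∀ (e : T.QA) p u, (e : U) = T.x4 p u → ((γ e : T.QA) : U) = T.x4 p u
  e5 : ∀ (e : T.QA) t, (e : U) = T.x5 t → ((γ e : T.QA) : U) = T.x3 t
  e6 : ∀ (e : T.QA) p u, (e : U) = T.x6 p u → ((γ e : T.QA) : U) = T.x2 p u
  e7 : ∀ (e : T.QA) t, (e : U) = T.x7 t → ((γ e : T.QA) : U) = T.x1 t

/-- the Weyl element `X_i ↔ X_{10-i}` on `QB` -/
structure IsWb (γ : MulAut T.QB) : Prop where
  e2 : ∀ (e : T.QB) p u, (e : U) = T.x2 p u → ((γ e : T.QB) : U) = T.x8 p u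
  e3 : ∀ (e : T.QB) t, (e : U) = T.x3 t → ((γ e : T.QB) : U) = T.x7 t
  e4 : ∀ (e : T.QB) p u, (e : U) = T.x4 p u → ((γ e : T.QB) : U) = T.x6 p u
  e5 : ∀ (e : T.QB) t, (e : U) = T.x5 t → ((γ e : T.QB) : U) = T.x5 t
  e6 : ∀ (e : T.QB) p u, (e : U) = T.x6 p u → ((γ e : T.QB) : U) = T.x4 p u
  e7 : ∀ (e : T.QB) t, (e : U) = T.x7 t → ((γ e : T.QB) : U) = T.x3 t
  e8 : ∀ (e : T.QB) p u, (e : U) = T.x8 p u → ((γ e : T.QB) : U) = T.x2 p u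

/-- `Inn(QA) Sz(q)` -/
def LamA : Subgroup (MulAut T.QA) := autInducedBy ⊤ T.QA ⊔ Subgroup.closure {γ | T.IsWa γ}

/-- `Inn(QB) SL₂(q)` -/
def LamB : Subgroup (MulAut T.QB) := autInducedBy ⊤ T.QB ⊔ Subgroup.closure {γ | T.IsWb γ}

/-- `Γ = Aut_F(Q)` for a parabolic `Q` whose Sylow subgroup is not normal, `D` the odd part of `Aut_F(U)` -/
structure Par (Q : Subgroup U) (Γ : Subgroup (MulAut Q)) (D : Subgroup (MulAut U)) : Prop where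
  indu : autInducedBy ⊤ Q ≤ Γ
  syl : ∀ P : Subgroup (MulAut Q), P ≤ Γ → IsPGroup 2 P → ∃ g ∈ Γ, ∀ x ∈ P, g * x * g⁻¹ ∈ autInducedBy ⊤ Q
  nn : ¬ ∀ γ ∈ Γ, NormAut ⊤ γ
  D_le : D ≤ T.TT
  D_cop : (Nat.card D).Coprime 2
  D_res : ∀ d ∈ D, ∀ γ : MulAut Q, IsR d γ → γ ∈ Γ
  norm : ∀ γ ∈ Γ, NormAut ⊤ γ → ∃ x : U, ∃ d ∈ D, ∀ e : Q, ((γ e : Q) : U) = x * d e * x⁻¹

/-- `Γ = Λ D|` -/
def Std {U : Type v} [Group U] {Q : Subgroup U} (Lam Γ : Subgroup (MulAut Q)) (D : Subgroup (MulAut U)) : Prop :=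
  ∀ γ : MulAut Q, γ ∈ Γ ↔ ∃ l ∈ Lam, ∃ d ∈ D, ∃ δ : MulAut Q, IsR d δ ∧ γ = l * δ

/-- `D` contains the torus `C_T(Z4)` -/
def HasA (D : Subgroup (MulAut U)) : Prop :=
  ∀ y : K, y ≠ 0 → ∀ α : MulAut U, T.IsTor α (y * σ y) (σ y)⁻¹ (RingEquiv.refl K) → α ∈ D

/-- `D` contains the torus `C_T(X5)` -/
def HasB (D : Subgroup (MulAut U)) : Prop :=
  ∀ y : K, y ≠ 0 → ∀ α : MulAut U, T.IsTor α (y ^ 2)⁻¹ y (RingEquiv.refl K) → α ∈ D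

end

end TF

/-! ### The statements -/

/-- (ISO) two groups with coordinates are isomorphic, compatibly with the root elements -/
def StIso : Prop :=
  ∀ {K : Type u} [Field K] {σ : K →+* K} {m : ℕ}, HypK σ m → ∀ {U : Type v} {U' : Type w} [Group U] [Group U'] (T : TF σ U)
    (T' : TF σ U'), ∃ e : U ≃* U', (∀ t, e (T.x1 t) = T'.x1 t) ∧ (∀ p u, e (T.x2 p u) = T'.x2 p u) ∧
      (∀ t, e (T.x3 t) = T'.x3 t) ∧ (∀ p u, e (T.x4 p u) = T'.x4 p u) ∧ (∀ t, e (T.x5 t) = T'.x5 t) ∧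
      (∀ p u, e (T.x6 p u) = T'.x6 p u) ∧ (∀ t, e (T.x7 t) = T'.x7 t) ∧ (∀ p u, e (T.x8 p u) = T'.x8 p u)

/-- (GRP) order; the automorphisms exist -/
def StGrp : Prop :=
  ∀ {K : Type u} [Field K] {σ : K →+* K} {m : ℕ}, HypK σ m → ∀ {U : Type v} [Group U] (T : TF σ U),
    Nat.card U = (2 ^ (2 * m + 1)) ^ 12 ∧ IsPGroup 2 (⊤ : Subgroup U) ∧
    (∀ (f g : K) (τ : K ≃+* K), f ≠ 0 → g ≠ 0 → ∃ α, T.IsTor α f g τ) ∧
    (∀ α ∈ T.TT, ∃ f g τ, T.IsTor α f g τ) ∧ (∃ γ, T.IsWa γ) ∧ (∃ γ, T.IsWb γ)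

/-- (SYL) -/
def StSyl : Prop :=
  ∀ {K : Type u} [Field K] [Fintype K] (m : ℕ), Fintype.card K = 2 ^ (2 * m + 1) →
    ∀ P : Sylow 2 ↥(Cfsg.Lie.twistedF4 K (2 ^ m)), ∃ σ : K →+* K, HypK σ m ∧
      Nonempty (TF σ ↥(P : Subgroup ↥(Cfsg.Lie.twistedF4 K (2 ^ m))))

/-- (ESS) essential subgroups of a saturated system -/
def StEssTF : Prop :=
  ∀ {K : Type u} [Field K] {σ : K →+* K} {m : ℕ}, HypK σ m → ∀ {U : Type v} [Group U] (T : TF σ U)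
    (F : FusionSystem (⊤ : Subgroup U)), F.IsSaturated 2 → ∀ R : Subgroup U, F.IsEssential 2 R → R = T.QA ∨ R = T.QB

/-- (TI) -/
def StTI : Prop :=
  ∀ {K : Type u} [Field K] {σ : K →+* K} {m : ℕ}, HypK σ m → ∀ {U : Type v} [Group U] (T : TF σ U),
    ∀ Q : Subgroup U, (Q = T.QA ∨ Q = T.QB) →
    (∀ Γ : Subgroup (MulAut Q), autInducedBy ⊤ Q ≤ Γ →
      (∀ P : Subgroup (MulAut Q), P ≤ Γ → IsPGroup 2 P → ∃ g ∈ Γ, ∀ x ∈ P, g * x * g⁻¹ ∈ autInducedBy ⊤ Q) →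
      TIAut (⊤ : Subgroup U) Γ) ∧
    centralizerIn ⊤ Q ≤ Q ∧ Q ≠ ⊤ ∧ (∀ α : MulAut U, Q.map α.toMonoidHom = Q)

/-- (POS) every group of automorphisms of odd order is conjugate into `TT` -/
def StPos : Prop :=
  ∀ {K : Type u} [Field K] {σ : K →+* K} {m : ℕ}, HypK σ m → ∀ {U : Type v} [Group U] (T : TF σ U),
    ∀ D : Subgroup (MulAut U), (Nat.card D).Coprime 2 → ∃ θ : MulAut U, ∀ d ∈ D, θ * d * θ⁻¹ ∈ T.TT

/-- (LA1) `q ≥ 8` -/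
def StLA1 : Prop :=
  ∀ {K : Type u} [Field K] {σ : K →+* K} {m : ℕ}, HypK σ m → 1 ≤ m → ∀ {U : Type v} [Group U] (T : TF σ U)
    (Γ : Subgroup (MulAut T.QA)) (D : Subgroup (MulAut U)), T.Par T.QA Γ D → T.HasA D

/-- (LB1) `q ≥ 8` -/
def StLB1 : Prop :=
  ∀ {K : Type u} [Field K] {σ : K →+* K} {m : ℕ}, HypK σ m → 1 ≤ m → ∀ {U : Type v} [Group U] (T : TF σ U)
    (Γ : Subgroup (MulAut T.QB)) (D : Subgroup (MulAut U)), T.Par T.QB Γ D → T.HasB D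

/-- (LA2) `q ≥ 8` -/
def StLA2 : Prop :=
  ∀ {K : Type u} [Field K] {σ : K →+* K} {m : ℕ}, HypK σ m → 1 ≤ m → ∀ {U : Type v} [Group U] (T : TF σ U)
    (Γ : Subgroup (MulAut T.QA)) (D : Subgroup (MulAut U)), T.Par T.QA Γ D → T.HasA D → T.HasB D →
    TF.Std T.LamA Γ D

/-- (LB2) `q ≥ 8` -/
def StLB2 : Prop :=
  ∀ {K : Type u} [Field K] {σ : K →+* K} {m : ℕ}, HypK σ m → 1 ≤ m → ∀ {U : Type v} [Group U] (T : TF σ U)
    (Γ : Subgroup (MulAut T.QB)) (D : Subgroup (MulAut U)), T.Par T.QB Γ D → T.HasA D → T.HasB D →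
    TF.Std T.LamB Γ D

/-- (REAL) all `q`: `²F₄(q) ⋊ (field automorphisms)` -/
def StReal : Prop :=
  ∀ {K : Type u} [Field K] {σ : K →+* K} {m : ℕ}, HypK σ m → ∀ {U : Type v} [Group U] (T : TF σ U)
    (D : Subgroup (MulAut U)), D ≤ T.TT → (Nat.card D).Coprime 2 → T.HasA D → T.HasB D →
    ∃ F : FusionSystem (⊤ : Subgroup U), F.IsSaturated 2 ∧ F.IsRealizable 2 ∧
      AF F = (MulAut.conj : U →* MulAut U).range ⊔ D ∧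
      TF.Std T.LamA (F.autGroup T.QA) D ∧ TF.Std T.LamB (F.autGroup T.QB) D

/-- `γ' = θ γ θ⁻¹` for automorphisms of a characteristic subgroup `Q` -/
def IsCj {U : Type v} [Group U] (θ : MulAut U) {Q : Subgroup U} (γ γ' : MulAut Q) : Prop :=
  ∀ e e' : Q, (e' : U) = θ e → ((γ' e' : Q) : U) = θ (γ e : Q)

/-- (Q2) `q = 2` -/
def StQ2 : Prop :=
  ∀ {K : Type u} [Field K] {σ : K →+* K}, HypK σ 0 → ∀ {U : Type v} [Group U] (T : TF σ U)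
    (Γa : Subgroup (MulAut T.QA)) (Γb : Subgroup (MulAut T.QB)), T.Par T.QA Γa ⊥ → T.Par T.QB Γb ⊥ →
    ∃ θ : MulAut U, (∀ γ γ' : MulAut T.QA, IsCj θ γ γ' → (γ ∈ Γa ↔ γ' ∈ T.LamA)) ∧
      (∀ γ γ' : MulAut T.QB, IsCj θ γ γ' → (γ ∈ Γb ↔ γ' ∈ T.LamB))

end Cfsg.Agent.H745.TF
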