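import Cfsg.Agent.H745.TF.Stmts2
import Cfsg.Agent.H802.TE.Defs

/-!
# S5262: the essential subgroups, steps

Plan: `outputs/live/tools/plans/S5262.md`, section ESS-745. The engine is `Cfsg.Agent.H802.TE.Eng` (StPhi, StP2, StP2c,
StP2w, StBd, StCh, StHull, StL, StConj, ...), `StSecC`, `StSecW` and the engine of `H756/PU/Engine.lean`.
-/

set_option autoImplicit false
set_option linter.dupNamespace false

namespace Cfsg.Agent.H745.TF

open Cfsg Cfsg.FusionSystem Cfsg.Agent.Octagon.Pkg Cfsg.Agent.H756.PU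

universe u v

/-- (INV) involutions outside `QB` are conjugate to some `x1 t` -/
def StInv : Prop :=
  ∀ {K : Type u} [Field K] {σ : K →+* K} {m : ℕ}, HypK σ m → ∀ {U : Type v} [Group U] (T : TF σ U)
    (g : U), g * g = 1 → g ∉ T.QB → ∃ x : U, ∃ t : K, t ≠ 0 ∧ x * g * x⁻¹ = T.x1 t

/-- (ORD) elements of `QB∖N3` are not involutions -/
def StOrd : Prop :=
  ∀ {K : Type u} [Field K] {σ : K →+* K} {m : ℕ}, HypK σ m → ∀ {U : Type v} [Group U] (T : TF σ U)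
    (g : U), g * g = 1 → g ∈ T.QB → g ∈ T.N3

/-- (ESS1) -/
def StEss1 : Prop :=
  ∀ {K : Type u} [Field K] {σ : K →+* K} {m : ℕ}, HypK σ m → ∀ {U : Type v} [Group U] (T : TF σ U)
    {R : Subgroup U} {Γ : Subgroup (MulAut R)}, Ess (⊤ : Subgroup U) R 2 Γ → T.V ≤ R

/-- (ESS2) -/
def StEss2 : Prop :=
  ∀ {K : Type u} [Field K] {σ : K →+* K} {m : ℕ}, HypK σ m → ∀ {U : Type v} [Group U] (T : TF σ U)
    {R : Subgroup U} {Γ : Subgroup (MulAut R)}, Ess (⊤ : Subgroup U) R 2 Γ → T.V ≤ R → T.Y ≤ R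

/-- (ESS3) -/
def StEss3 : Prop :=
  ∀ {K : Type u} [Field K] {σ : K →+* K} {m : ℕ}, HypK σ m → ∀ {U : Type v} [Group U] (T : TF σ U)
    {R : Subgroup U} {Γ : Subgroup (MulAut R)}, Ess (⊤ : Subgroup U) R 2 Γ → T.Y ≤ R → ¬ R ≤ T.N3

/-- (ESS4) -/
def StEss4 : Prop :=
  ∀ {K : Type u} [Field K] {σ : K →+* K} {m : ℕ}, HypK σ m → ∀ {U : Type v} [Group U] (T : TF σ U)
    {R : Subgroup U} {Γ : Subgroup (MulAut R)}, Ess (⊤ : Subgroup U) R 2 Γ → T.Y ≤ R → R ≤ T.QB →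
    ¬ R ≤ T.N3 → R = T.QB

/-- (ESS5) -/
def StEss5 : Prop :=
  ∀ {K : Type u} [Field K] {σ : K →+* K} {m : ℕ}, HypK σ m → ∀ {U : Type v} [Group U] (T : TF σ U)
    {R : Subgroup U} {Γ : Subgroup (MulAut R)}, Ess (⊤ : Subgroup U) R 2 Γ → T.Y ≤ R → R ≤ T.QA →
    ¬ R ≤ T.QB → R = T.QA

end Cfsg.Agent.H745.TF
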