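import Cfsg.Agent.H745.TF.EssStmts

/-!
# S5262: the essential subgroups, steps ESS4, ESS5, ESS6 (mixed case)

Plan: `outputs/live/tools/plans/S5262.md`, section ESS-745B. Nothing here needs `q ≥ 8`.
-/

set_option autoImplicit false
set_option linter.dupNamespace false

namespace Cfsg.Agent.H745.TF

open Cfsg Cfsg.FusionSystem Cfsg.Agent.Octagon.Pkg Cfsg.Agent.H756.PU

universe u v

/-- (SQ) the involutions of `N3∖A37` -/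
def StSQ : Prop :=
  ∀ {K : Type u} [Field K] {σ : K →+* K} {m : ℕ}, HypK σ m → ∀ {U : Type v} [Group U] (T : TF σ U)
    (c : Cd K), T.el c ∈ T.N3 → T.el c * T.el c = 1 → T.el c ∉ T.A37 →
    ∃ p k r : K, r ≠ 0 ∧ (p ≠ 0 ∨ k ≠ 0) ∧ c.b2 = r * p * σ p ∧ c.a4 = r * σ p * k ∧ c.a6 = r * p * σ k ∧
      c.b8 = r * k * σ k

/-- (EXC) an involution of a mixed subgroup `R` with all `[r, y]² = 1` lies in `Z2 A37` -/
def StExc : Prop :=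
  ∀ {K : Type u} [Field K] {σ : K →+* K} {m : ℕ}, HypK σ m → ∀ {U : Type v} [Group U] (T : TF σ U)
    (R : Subgroup U), ¬ R ≤ T.QA → ¬ R ≤ T.QB → ∀ y : U, y * y = 1 →
    (∀ r ∈ R, (r * y * r⁻¹ * y⁻¹) * (r * y * r⁻¹ * y⁻¹) = 1) → y ∈ T.Z2 ⊔ T.A37

/-- (ESS4a) -/
def StEss4a : Prop :=
  ∀ {K : Type u} [Field K] {σ : K →+* K} {m : ℕ}, HypK σ m → ∀ {U : Type v} [Group U] (T : TF σ U)
    {R : Subgroup U} {Γ : Subgroup (MulAut R)}, Ess (⊤ : Subgroup U) R 2 Γ → T.Y ≤ R → R ≤ T.QB →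
    ¬ R ≤ T.N3 → T.A37 ≤ R

/-- (ESS4b) -/
def StEss4b : Prop :=
  ∀ {K : Type u} [Field K] {σ : K →+* K} {m : ℕ}, HypK σ m → ∀ {U : Type v} [Group U] (T : TF σ U)
    {R : Subgroup U} {Γ : Subgroup (MulAut R)}, Ess (⊤ : Subgroup U) R 2 Γ → T.A37 ≤ R → R ≤ T.QB →
    ¬ R ≤ T.N3 → T.N3 ≤ R

/-- (ESS4c) -/
def StEss4c : Prop :=
  ∀ {K : Type u} [Field K] {σ : K →+* K} {m : ℕ}, HypK σ m → ∀ {U : Type v} [Group U] (T : TF σ U)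
    {R : Subgroup U} {Γ : Subgroup (MulAut R)}, Ess (⊤ : Subgroup U) R 2 Γ → T.N3 ≤ R → R ≤ T.QB →
    ¬ R ≤ T.N3 → R = T.QB

/-- (ESS5a) -/
def StEss5a : Prop :=
  ∀ {K : Type u} [Field K] {σ : K →+* K} {m : ℕ}, HypK σ m → ∀ {U : Type v} [Group U] (T : TF σ U)
    {R : Subgroup U} {Γ : Subgroup (MulAut R)}, Ess (⊤ : Subgroup U) R 2 Γ → T.Y ≤ R → R ≤ T.QA →
    ¬ R ≤ T.QB → T.E ≤ R

/-- (ESS5b) -/
def StEss5b : Prop :=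
  ∀ {K : Type u} [Field K] {σ : K →+* K} {m : ℕ}, HypK σ m → ∀ {U : Type v} [Group U] (T : TF σ U)
    {R : Subgroup U} {Γ : Subgroup (MulAut R)}, Ess (⊤ : Subgroup U) R 2 Γ → T.E ≤ R → R ≤ T.QA →
    ¬ R ≤ T.QB → T.D ≤ R

/-- (ESS5c) -/
def StEss5c : Prop :=
  ∀ {K : Type u} [Field K] {σ : K →+* K} {m : ℕ}, HypK σ m → ∀ {U : Type v} [Group U] (T : TF σ U)
    {R : Subgroup U} {Γ : Subgroup (MulAut R)}, Ess (⊤ : Subgroup U) R 2 Γ → T.D ≤ R → R ≤ T.QA →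
    ¬ R ≤ T.QB → R = T.QA

/-- (ESS6a) -/
def StEss6a : Prop :=
  ∀ {K : Type u} [Field K] {σ : K →+* K} {m : ℕ}, HypK σ m → ∀ {U : Type v} [Group U] (T : TF σ U)
    {R : Subgroup U} {Γ : Subgroup (MulAut R)}, Ess (⊤ : Subgroup U) R 2 Γ → T.Y ≤ R → ¬ R ≤ T.QA →
    ¬ R ≤ T.QB → T.E4 ≤ R

/-- (ESS6b) -/
def StEss6b : Prop :=
  ∀ {K : Type u} [Field K] {σ : K →+* K} {m : ℕ}, HypK σ m → ∀ {U : Type v} [Group U] (T : TF σ U)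
    {R : Subgroup U} {Γ : Subgroup (MulAut R)}, Ess (⊤ : Subgroup U) R 2 Γ → T.E4 ≤ R → ¬ R ≤ T.QA →
    ¬ R ≤ T.QB → T.D ≤ R

/-- (ESS6c), the mixed case: the rest -/
def StMixF : Prop :=
  ∀ {K : Type u} [Field K] {σ : K →+* K} {m : ℕ}, HypK σ m → ∀ {U : Type v} [Group U] (T : TF σ U)
    {R : Subgroup U} {Γ : Subgroup (MulAut R)}, Ess (⊤ : Subgroup U) R 2 Γ → T.D ≤ R →
    ¬ R ≤ T.QA → ¬ R ≤ T.QB → T.QA ≤ R ∧ Inv Γ T.QA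

end Cfsg.Agent.H745.TF
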