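import Cfsg.Agent.H745.TF.Twist
import Cfsg.Agent.H756.PU.AsmGen

/-!
# S5262: the assembly
-/

set_option autoImplicit false
set_option linter.dupNamespace false

namespace Cfsg.Agent.H745.TF

open Cfsg Cfsg.FusionSystem Cfsg.Agent.H802 Cfsg.Agent.H756.PU

universe u v

/-- all the pieces except the transport -/
structure Pieces : Prop where
  ess : StEss.{v}
  con : StCon.{v}
  same : StSame.{v}
  compl : StCompl.{v}
  grp : StGrp.{u, v}
  essTF : StEssTF.{u, v}
  ti : StTI.{u, v}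
  pos : StPos.{u, v}
  la1 : StLA1.{u, v}
  lb1 : StLB1.{u, v}
  la2 : StLA2.{u, v}
  lb2 : StLB2.{u, v}
  real : StReal.{u, v}
  q2 : StQ2.{u, v}

section

variable {K : Type u} [Field K] {σ : K →+* K} {m : ℕ} {U : Type v} [Group U] (T : TF σ U)

include T in
theorem finite_U (H : Pieces.{u, v}) (hK : HypK σ m) : Finite U := by
  apply Nat.finite_of_card_ne_zero
  rw [(H.grp hK T).1]
  exact pow_ne_zero _ (pow_ne_zero _ two_ne_zero)

theorem par_of (H : Pieces.{u, v}) (hK : HypK σ m) {F : FusionSystem (⊤ : Subgroup U)}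
    (hF : F.IsSaturated 2) {Q : Subgroup U} (hQ : Q = T.QA ∨ Q = T.QB) (hE : F.IsEssential 2 Q)
    {D : Subgroup (MulAut U)} (hD : D ≤ T.TT) (hDc : (Nat.card D).Coprime 2)
    (hAF : AF F = (MulAut.conj : U →* MulAut U).range ⊔ D) : T.Par Q (F.autGroup Q) D := by
  have hfin : Finite U := finite_U T H hK
  have hS : IsPGroup 2 (⊤ : Subgroup U) := (H.grp hK T).2.1
  have : Fact (Nat.Prime 2) := ⟨Nat.prime_two⟩
  obtain ⟨hTI, hC, -, hchar⟩ := H.ti hK T Q hQ
  have hn := top_le_normalizer_of_char hchar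
  refine ⟨autInducedBy_le_autGroup F le_top, syl_of_normal hS hF hn, not_norm_of_ess (H.ess F Q hS hF hE),
    hD, hDc, ?_, ?_⟩
  · intro d hd γ hγ
    have h1 : d ∈ AF F := by
      rw [hAF]
      exact Subgroup.mem_sup_right hd
    exact res_mem h1 hγ
  · intro γ hγ hN
    obtain ⟨β, hβ, he⟩ := ext_mem hS hF hn hγ hN
    rw [hAF] at hβ
    obtain ⟨x, d, hd, rfl⟩ := mem_range_sup hβ
    exact ⟨x, d, hd, fun e => he e⟩

/-- two systems with the same `D` and standard automizers coincide -/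
theorem real_of_std (H : Pieces.{u, v}) (hK : HypK σ m) {F : FusionSystem (⊤ : Subgroup U)}
    (hF : F.IsSaturated 2) {D : Subgroup (MulAut U)} (hD : D ≤ T.TT) (hDc : (Nat.card D).Coprime 2)
    (hAF : AF F = (MulAut.conj : U →* MulAut U).range ⊔ D) (hA : T.HasA D) (hB : T.HasB D)
    (hSA : TF.Std T.LamA (F.autGroup T.QA) D) (hSB : TF.Std T.LamB (F.autGroup T.QB) D) : F.IsRealizable 2 := by
  have hfin : Finite U := finite_U T H hK
  have hS : IsPGroup 2 (⊤ : Subgroup U) := (H.grp hK T).2.1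
  have : Fact (Nat.Prime 2) := ⟨Nat.prime_two⟩
  obtain ⟨F', hF', hR, hAF', hSA', hSB'⟩ := H.real hK T D hD hDc hA hB
  have hsame := H.same F F' T.QA T.QB hS hF hF' le_top le_top
    (fun E hE => H.essTF hK T F hF E hE) (fun E hE => H.essTF hK T F' hF' E hE)
    (autGroup_top_eq_of_AF (hAF.trans hAF'.symm))
    (Subgroup.ext fun γ => (hSA γ).trans (hSA' γ).symm) (Subgroup.ext fun γ => (hSB γ).trans (hSB' γ).symm)
  rw [fusionSystem_ext hsame]
  exact hR

/-- the elements of a field with two elements -/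
theorem eq_one_of_ne_zero (hK : HypK σ 0) {x : K} (hx : x ≠ 0) : x = 1 := by
  have hfin := hK.fin
  have := Fintype.ofFinite K
  have h := FiniteField.pow_card_sub_one_eq_one x hx
  rw [← Nat.card_eq_fintype_card, hK.card] at h
  simpa using h

/-- `TT = 1` for `q = 2` -/
theorem TT_bot (H : Pieces.{u, v}) (hK : HypK σ 0) {α : MulAut U} (hα : α ∈ T.TT) : α = 1 := by
  obtain ⟨f, g, τ, h⟩ := (H.grp hK T).2.2.2.1 α hα
  have hf := eq_one_of_ne_zero hK h.nf
  have hg := eq_one_of_ne_zero hK h.ng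
  have hσ : ∀ x : K, σ x = x := fun x => by rw [hK.sig]; by_cases hx : x = 0
                                            · rw [hx]; simp
                                            · rw [eq_one_of_ne_zero hK hx, one_pow]
  have hτ : ∀ x : K, τ x = x := fun x => by
    by_cases hx : x = 0
    · rw [hx, map_zero]
    · rw [eq_one_of_ne_zero hK hx, map_one]
  subst hf hg
  apply MulEquiv.ext
  intro x
  obtain ⟨c, rfl⟩ := T.bij.2 x
  have e1 : ∀ t, α (T.x1 t) = T.x1 t := fun t => by simpa [hσ, hτ] using h.e1 t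
  have e2 : ∀ p u, α (T.x2 p u) = T.x2 p u := fun p u => by simpa [hσ, hτ] using h.e2 p u
  have e3 : ∀ t, α (T.x3 t) = T.x3 t := fun t => by simpa [hσ, hτ] using h.e3 t
  have e4 : ∀ p u, α (T.x4 p u) = T.x4 p u := fun p u => by simpa [hσ, hτ] using h.e4 p u
  have e5 : ∀ t, α (T.x5 t) = T.x5 t := fun t => by simpa [hσ, hτ] using h.e5 t
  have e6 : ∀ p u, α (T.x6 p u) = T.x6 p u := fun p u => by simpa [hσ, hτ] using h.e6 p u
  have e7 : ∀ t, α (T.x7 t) = T.x7 t := fun t => by simpa [hσ, hτ] using h.e7 t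
  have e8 : ∀ p u, α (T.x8 p u) = T.x8 p u := fun p u => by simpa [hσ, hτ] using h.e8 p u
  show α _ = _
  simp only [map_mul, e1, e2, e3, e4, e5, e6, e7, e8]
  rfl

theorem real_of_tt (H : Pieces.{u, v}) (hK : HypK σ m) {F : FusionSystem (⊤ : Subgroup U)}
    (hF : F.IsSaturated 2) (hE1 : F.IsEssential 2 T.QA) (hE2 : F.IsEssential 2 T.QB)
    {D : Subgroup (MulAut U)} (hD : D ≤ T.TT) (hDc : (Nat.card D).Coprime 2)
    (hAF : AF F = (MulAut.conj : U →* MulAut U).range ⊔ D) : F.IsRealizable 2 := by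
  have hfin : Finite U := finite_U T H hK
  have hS : IsPGroup 2 (⊤ : Subgroup U) := (H.grp hK T).2.1
  have : Fact (Nat.Prime 2) := ⟨Nat.prime_two⟩
  have P1 := par_of T H hK hF (Or.inl rfl) hE1 hD hDc hAF
  have P2 := par_of T H hK hF (Or.inr rfl) hE2 hD hDc hAF
  rcases Nat.eq_zero_or_pos m with rfl | hm
  · -- `q = 2`
    have hD' : D = ⊥ := (Subgroup.eq_bot_iff_forall _).2 fun d hd => TT_bot T H hK (hD hd)
    subst hD'
    obtain ⟨θ, hθa, hθb⟩ := H.q2 hK T _ _ P1 P2
    obtain ⟨F', hF', hR, hAF', -, haut⟩ := exists_twist F θ hF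
    apply hR
    have hca := (H.ti hK T T.QA (Or.inl rfl)).2.2.2
    have hcb := (H.ti hK T T.QB (Or.inr rfl)).2.2.2
    -- the conjugate by `θ⁻¹`
    have back : ∀ Q : Subgroup U, (∀ α : MulAut U, Q.map α.toMonoidHom = Q) → ∀ γ' : MulAut Q,
        ∃ γ : MulAut Q, IsCj θ γ γ' := by
      intro Q hQ γ'
      have h1 : ∀ (α : MulAut U) (x : U), x ∈ Q → α x ∈ Q := fun α x hx => by
        have : α x ∈ Q.map α.toMonoidHom := ⟨x, hx, rfl⟩
        rwa [hQ] at this
      let r : MulAut Q := { toFun := fun x => ⟨θ x, h1 θ x x.2⟩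
                            invFun := fun x => ⟨θ⁻¹ x, h1 θ⁻¹ x x.2⟩
                            left_inv := fun x => Subtype.ext (MulAut.inv_apply_self _ _ _)
                            right_inv := fun x => Subtype.ext (MulAut.apply_inv_self _ _ _)
                            map_mul' := fun x y => Subtype.ext (map_mul θ _ _) }
      refine ⟨r⁻¹ * γ' * r, fun e e' he => ?_⟩
      have h2 : e' = r e := Subtype.ext he
      subst h2
      have h3 : r ((r⁻¹ * γ' * r) e) = γ' (r e) := by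
        rw [MulAut.mul_apply, MulAut.mul_apply, MulAut.apply_inv_self]
      have h4 := congrArg Subtype.val h3
      exact h4.symm
    have conv : ∀ (Q : Subgroup U) (Lam : Subgroup (MulAut Q)), (∀ α : MulAut U, Q.map α.toMonoidHom = Q) →
        (∀ γ γ' : MulAut Q, IsCj θ γ γ' → (γ ∈ F.autGroup Q ↔ γ' ∈ Lam)) →
        TF.Std Lam (F'.autGroup Q) ⊥ := by
      intro Q Lam hQ h γ'
      obtain ⟨γ, hγ⟩ := back Q hQ γ'
      rw [← haut Q hQ γ γ' hγ, h γ γ' hγ]
      constructor
      · intro h5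
        exact ⟨γ', h5, 1, one_mem _, 1, fun e => rfl, (mul_one _).symm⟩
      · rintro ⟨l, hl, d, hd, δ, hδ, rfl⟩
        have h6 : δ = 1 := by
          apply MulEquiv.ext
          intro e
          apply Subtype.ext
          rw [hδ e, Subgroup.mem_bot.1 hd]
          rfl
        rw [h6, mul_one]; exact hl
    refine real_of_std T H hK hF' bot_le (by simp) ?_ ?_ ?_ (conv _ _ hca hθa) (conv _ _ hcb hθb)
    · rw [hAF', hAF, Subgroup.map_sup, map_conj_range, Subgroup.map_bot]
    · intro y hy α hα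
      rw [Subgroup.mem_bot]
      exact TT_bot T H hK (Subgroup.subset_closure ⟨_, _, _, hα⟩)
    · intro y hy α hα
      rw [Subgroup.mem_bot]
      exact TT_bot T H hK (Subgroup.subset_closure ⟨_, _, _, hα⟩)
  · have hA := H.la1 hK hm T _ D P1
    have hB := H.lb1 hK hm T _ D P2
    exact real_of_std T H hK hF hD hDc hAF hA hB (H.la2 hK hm T _ D P1 hA hB) (H.lb2 hK hm T _ D P2 hA hB)

include T in
theorem real_of (H : Pieces.{u, v}) (hK : HypK σ m) {F : FusionSystem (⊤ : Subgroup U)}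
    (hF : F.IsSaturated 2) : F.IsRealizable 2 := by
  have hfin : Finite U := finite_U T H hK
  have hS : IsPGroup 2 (⊤ : Subgroup U) := (H.grp hK T).2.1
  have : Fact (Nat.Prime 2) := ⟨Nat.prime_two⟩
  have con : ∀ Q : Subgroup U, (Q = T.QA ∨ Q = T.QB) → (∀ E, F.IsEssential 2 E → E = Q) →
      F.IsRealizable 2 := by
    intro Q hQ hu
    obtain ⟨hTI, hC, hne, hchar⟩ := H.ti hK T Q hQ
    exact H.con F Q hS hF le_top (top_le_normalizer_of_char hchar) hC hu (inv_top_of_char hchar)
  by_cases hE1 : F.IsEssential 2 T.QA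
  · by_cases hE2 : F.IsEssential 2 T.QB
    · obtain ⟨D0, hD0, hD0e⟩ := H.compl F hS hF
      obtain ⟨θ, hθ⟩ := H.pos hK T D0 hD0
      obtain ⟨F', hF', hR, hAF', hess, -⟩ := exists_twist F θ hF
      have hc1 := (H.ti hK T T.QA (Or.inl rfl)).2.2.2
      have hc2 := (H.ti hK T T.QB (Or.inr rfl)).2.2.2
      have hE1' : F'.IsEssential 2 T.QA := by
        have := (hess T.QA).1 hE1
        rwa [hc1] at this
      have hE2' : F'.IsEssential 2 T.QB := by
        have := (hess T.QB).1 hE2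
        rwa [hc2] at this
      apply hR
      refine real_of_tt T H hK hF' hE1' hE2' (D := D0.map (MulAut.conj θ).toMonoidHom) ?_ ?_ ?_
      · rintro _ ⟨d, hd, rfl⟩
        exact hθ d hd
      · have : Nat.card (D0.map (MulAut.conj θ).toMonoidHom) = Nat.card D0 :=
          (Nat.card_congr (D0.equivMapOfInjective _ (MulAut.conj θ).injective).toEquiv).symm
        rwa [this]
      · rw [hAF', ← hD0e, Subgroup.map_sup, map_conj_range]
    · refine con T.QA (Or.inl rfl) fun E hE => ?_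
      rcases H.essTF hK T F hF E hE with h | h
      · exact h
      · subst h
        exact absurd hE hE2
  · refine con T.QB (Or.inr rfl) fun E hE => ?_
    rcases H.essTF hK T F hF E hE with h | h
    · subst h
      exact absurd hE hE1
    · exact h

end

theorem final_of (H : Pieces.{v, v}) (hTr : StTrans.{u, v}) (hSyl : StSyl.{v})
    {Ω : Type u} [Group Ω] {S : Subgroup Ω} [Finite S] (F : Cfsg.FusionSystem S)
    (hF : F.IsSaturated 2) {K : Type v} [Field K] [Fintype K] (m : ℕ)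
    (hK : Fintype.card K = 2 ^ (2 * m + 1)) (T : Sylow 2 ↥(Cfsg.Lie.twistedF4 K (2 ^ m)))
    (e : ↥S ≃* ↥(T : Subgroup ↥(Cfsg.Lie.twistedF4 K (2 ^ m)))) : F.IsRealizable 2 := by
  have : Fact (Nat.Prime 2) := ⟨Nat.prime_two⟩
  obtain ⟨σ, hyp, ⟨TT⟩⟩ := hSyl m hK T
  obtain ⟨F', hF', hR⟩ := hTr F e hF
  exact hR (real_of TT H hyp hF')

end Cfsg.Agent.H745.TF
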