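import Mathlib
import Cfsg.Agent.Octagon.Pkg
import Cfsg.Agent.H756.PU.Engine

/-!
# S5262: the Sylow 2-subgroup of `²F₄(q)` with its coordinates

Plan: `outputs/live/tools/plans/S5262.md`. `U` is a whole group, `F` a saturated system over `(⊤ : Subgroup U)`.
-/

set_option autoImplicit false
set_option linter.dupNamespace false

namespace Cfsg.Agent.H745.TF

open Cfsg Cfsg.FusionSystem Cfsg.Agent.Octagon.Pkg Cfsg.Agent.H756.PU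

universe u v

/-- the field: `q = 2^(2m+1)` elements, `σ x = x^(2^(m+1))`, so `σ (σ x) = x²` -/
structure HypK {K : Type u} [Field K] (σ : K →+* K) (m : ℕ) : Prop where
  fin : Finite K
  card : Nat.card K = 2 ^ (2 * m + 1)
  sig : ∀ x : K, σ x = x ^ (2 ^ (m + 1))
  sq : ∀ x : K, σ (σ x) = x ^ 2
  two : (2 : K) = 0

/-- coordinates: `x1 a1 · x2 a2 b2 · x3 a3 · x4 a4 b4 · x5 a5 · x6 a6 b6 · x7 a7 · x8 a8 b8` -/
@[ext] structure Cd (K : Type u) where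
  a1 : K
  a2 : K
  b2 : K
  a3 : K
  a4 : K
  b4 : K
  a5 : K
  a6 : K
  b6 : K
  a7 : K
  a8 : K
  b8 : K

/-- `U` is the unipotent group of `²F₄(q)`, with its root elements -/
structure TF {K : Type u} [Field K] (σ : K →+* K) (U : Type v) [Group U] where
  x1 : K → U
  x3 : K → U
  x5 : K → U
  x7 : K → U
  x2 : K → K → U
  x4 : K → K → U
  x6 : K → K → U
  x8 : K → K → U
  rel : OctRel σ x1 x3 x5 x7 x2 x4 x6 x8
  bij : Function.Bijective fun c : Cd K =>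
    x1 c.a1 * x2 c.a2 c.b2 * x3 c.a3 * x4 c.a4 c.b4 * x5 c.a5 * x6 c.a6 c.b6 * x7 c.a7 * x8 c.a8 c.b8

namespace TF

variable {K : Type u} [Field K] {σ : K →+* K} {U : Type v} [Group U] (T : TF σ U)

/-- the element with coordinates `c` -/
def el (c : Cd K) : U :=
  T.x1 c.a1 * T.x2 c.a2 c.b2 * T.x3 c.a3 * T.x4 c.a4 c.b4 * T.x5 c.a5 * T.x6 c.a6 c.b6 * T.x7 c.a7 * T.x8 c.a8 c.b8

/-! ### the root groups and the subgroups of the plan; membership in coordinates is task TF-CO -/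

def X1 : Subgroup U := Subgroup.closure (Set.range T.x1)
def X3 : Subgroup U := Subgroup.closure (Set.range T.x3)
def X5 : Subgroup U := Subgroup.closure (Set.range T.x5)
def X7 : Subgroup U := Subgroup.closure (Set.range T.x7)
def X2 : Subgroup U := Subgroup.closure {g | ∃ p u, g = T.x2 p u}
def X4 : Subgroup U := Subgroup.closure {g | ∃ p u, g = T.x4 p u}
def X6 : Subgroup U := Subgroup.closure {g | ∃ p u, g = T.x6 p u}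
def X8 : Subgroup U := Subgroup.closure {g | ∃ p u, g = T.x8 p u}
def Z2 : Subgroup U := Subgroup.closure {g | ∃ u, g = T.x2 0 u}
def Z4 : Subgroup U := Subgroup.closure {g | ∃ u, g = T.x4 0 u}
def Z6 : Subgroup U := Subgroup.closure {g | ∃ u, g = T.x6 0 u}
def Z8 : Subgroup U := Subgroup.closure {g | ∃ u, g = T.x8 0 u}

/-- `Q_a`, order `q^10` -/
def QA : Subgroup U := T.X1 ⊔ T.X2 ⊔ T.X3 ⊔ T.X4 ⊔ T.X5 ⊔ T.X6 ⊔ T.X7
/-- `Q_b = C(V)`, order `q^11` -/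
def QB : Subgroup U := T.X2 ⊔ T.X3 ⊔ T.X4 ⊔ T.X5 ⊔ T.X6 ⊔ T.X7 ⊔ T.X8
/-- `V = Z₂(U)`, order `q²` -/
def V : Subgroup U := T.Z4 ⊔ T.Z6
/-- `Y = V X5`, order `q³` -/
def Y : Subgroup U := T.Z4 ⊔ T.Z6 ⊔ T.X5
/-- `E4 = Y X3`, order `q⁴` -/
def E4 : Subgroup U := T.Z4 ⊔ T.Z6 ⊔ T.X5 ⊔ T.X3
/-- `E = Z2 X3 Z4 X5 Z6`, order `q⁵` -/
def E : Subgroup U := T.Z4 ⊔ T.Z6 ⊔ T.X5 ⊔ T.X3 ⊔ T.Z2
/-- `D = E X4 = C(E)`, order `q⁶` -/
def D : Subgroup U := T.Z4 ⊔ T.Z6 ⊔ T.X5 ⊔ T.X3 ⊔ T.Z2 ⊔ T.X4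
/-- `A37 = X3 Z4 X5 Z6 X7`, order `q⁵` -/
def A37 : Subgroup U := T.Z4 ⊔ T.Z6 ⊔ T.X5 ⊔ T.X3 ⊔ T.X7
/-- `N3 = C(Y)`, order `q⁹` -/
def N3 : Subgroup U := T.Z2 ⊔ T.X3 ⊔ T.X4 ⊔ T.X5 ⊔ T.X6 ⊔ T.X7 ⊔ T.Z8

end TF

end Cfsg.Agent.H745.TF
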