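import Cfsg.Agent.H745.TF.Stmts
import Cfsg.Agent.H805.PU.Main

/-!
# S5262: twisting a system, with the automizers of characteristic subgroups
-/

set_option autoImplicit false
set_option linter.dupNamespace false

namespace Cfsg.Agent.H745.TF

open Cfsg Cfsg.FusionSystem Cfsg.Agent.H756.PU Cfsg.Agent.H759 Cfsg.Agent.H805.PU

universe u

theorem exists_twist {G0 : Type u} [Group G0] [Finite G0] {p : ℕ} [Fact p.Prime] (F : FusionSystem (⊤ : Subgroup G0))
    (θ : MulAut G0) (hF : F.IsSaturated p) :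
    ∃ F' : FusionSystem (⊤ : Subgroup G0), F'.IsSaturated p ∧ (F'.IsRealizable p → F.IsRealizable p) ∧
      AF F' = (AF F).map (MulAut.conj θ).toMonoidHom ∧
      (∀ E : Subgroup G0, F.IsEssential p E ↔ F'.IsEssential p (E.map θ.toMonoidHom)) ∧
      ∀ Q : Subgroup G0, (∀ α : MulAut G0, Q.map α.toMonoidHom = Q) → ∀ γ γ' : MulAut Q, IsCj θ γ γ' →
        (γ ∈ F.autGroup Q ↔ γ' ∈ F'.autGroup Q) := by
  have hinj : Function.Injective (θ⁻¹ : MulAut G0).toMonoidHom := (θ⁻¹ : MulAut G0).injective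
  have htop : (⊤ : Subgroup G0) = (⊤ : Subgroup G0).map (θ⁻¹ : MulAut G0).toMonoidHom :=
    (Subgroup.map_top_of_surjective _ (θ⁻¹ : MulAut G0).surjective).symm
  obtain ⟨F', hF'⟩ := exists_pull' (hf := hinj) htop F
  refine ⟨F', hF'.isSaturated_iff.1 hF, H776.Co.isRealizable_push hF', ?_, fun E => ?_, ?_⟩
  · rw [AF_push hF', Subgroup.map_map]
    have : (MulAut.conj θ).toMonoidHom.comp (MulAut.conj θ⁻¹).toMonoidHom = MonoidHom.id _ := by
      ext x
      simp [MulAut.conj_apply, mul_assoc]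
    rw [this, Subgroup.map_id]
  · rw [← Cfsg.Agent.H805.PU.isEssential_iff hF', Subgroup.map_map]
    have : (θ⁻¹ : MulAut G0).toMonoidHom.comp θ.toMonoidHom = MonoidHom.id _ := by
      ext x
      show θ⁻¹ (θ x) = x
      exact MulAut.inv_apply_self _ _ _
    rw [this, Subgroup.map_id]
  · intro Q hQ γ γ' hc
    rw [← hF'.mem_autGroup_iff]
    -- `ca γ' = γ` up to the equality `Q.map θ⁻¹ = Q`
    have key : ∀ (P : Subgroup G0) (hP : P = Q) (β : MulAut P),
        (∀ (x : P), ((β x : P) : G0) = (γ ⟨x, hP ▸ x.2⟩ : Q)) → (γ ∈ F.autGroup Q ↔ β ∈ F.autGroup P) := by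
      intro P hP β hβ
      subst hP
      have : β = γ := by
        ext x
        exact hβ x
      rw [this]
    refine key _ (hQ θ⁻¹) _ fun y => ?_
    obtain ⟨x, rfl⟩ := (eqv hinj Q).surjective y
    rw [coe_ca_apply]
    have hθx : θ⁻¹ (x : G0) ∈ Q := by
      have : θ⁻¹ (x : G0) ∈ Q.map (θ⁻¹ : MulAut G0).toMonoidHom := ⟨x, x.2, rfl⟩
      rwa [hQ] at this
    have h1 := hc ⟨θ⁻¹ (x : G0), hθx⟩ x (by
      show (x : G0) = θ (θ⁻¹ (x : G0))
      rw [MulAut.apply_inv_self])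
    show θ⁻¹ ((γ' x : Q) : G0) = _
    rw [h1, MulAut.inv_apply_self]
    rfl

end Cfsg.Agent.H745.TF
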