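import Cfsg.Agent.H745.TF.EssStmts3
import Cfsg.Agent.H745.TF.Twist
import Cfsg.Agent.H756.PU.AsmGen

/-!
# S5262: assembly of `StEssTF`
-/

set_option autoImplicit false
set_option linter.dupNamespace false

namespace Cfsg.Agent.H745.TF

open Cfsg Cfsg.FusionSystem Cfsg.Agent.H802 Cfsg.Agent.H756.PU

universe u v

/-- the pieces of `StEssTF` -/
structure EssPieces : Prop where
  ess : StEss.{v}
  ov : StOver.{v}
  grp : StGrp.{u, v}
  ti : StTI.{u, v}
  e1 : StEss1.{u, v}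
  e2 : StEss2.{u, v}
  e3 : StEss3.{u, v}
  e4a : StEss4a.{u, v}
  e4b : StEss4b.{u, v}
  e4c : StEss4c.{u, v}
  e5a : StEss5a.{u, v}
  e5b : StEss5b.{u, v}
  e5c : StEss5c.{u, v}
  e6a : StEss6a.{u, v}
  e6b : StEss6b.{u, v}
  mixF : StMixF.{u, v}

theorem stEssTF_of (H : EssPieces.{u, v}) : StEssTF.{u, v} := by
  intro K _ σ m hK U _ T F hF R hR
  have hfin : Finite U := by
    apply Nat.finite_of_card_ne_zero
    rw [(H.grp hK T).1]
    exact pow_ne_zero _ (pow_ne_zero _ two_ne_zero)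
  have hS : IsPGroup 2 (⊤ : Subgroup U) := (H.grp hK T).2.1
  have : Fact (Nat.Prime 2) := ⟨Nat.prime_two⟩
  have hE : Ess (⊤ : Subgroup U) R 2 (F.autGroup R) := H.ess F R hS hF hR
  have hY : T.Y ≤ R := H.e2 hK T hE (H.e1 hK T hE)
  have hN : ¬ R ≤ T.N3 := H.e3 hK T hE hY
  by_cases hB : R ≤ T.QB
  · right
    have h1 := H.e4a hK T hE hY hB hN
    have h2 := H.e4b hK T hE h1 hB hN
    exact H.e4c hK T hE h2 hB hN
  · left
    by_cases hA : R ≤ T.QA
    · have h1 := H.e5a hK T hE hY hA hB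
      have h2 := H.e5b hK T hE h1 hA hB
      exact H.e5c hK T hE h2 hA hB
    · have h1 := H.e6a hK T hE hY hA hB
      have h2 := H.e6b hK T hE h1 hA hB
      obtain ⟨h3, h4⟩ := H.mixF hK T hE h2 hA hB
      obtain ⟨hTI, hC, -, hchar⟩ := H.ti hK T T.QA (Or.inl rfl)
      have hn := top_le_normalizer_of_char hchar
      exact H.ov F T.QA R hS hF hR h3 hn hC
        (hTI _ (autInducedBy_le_autGroup F le_top) (syl_of_normal hS hF hn)) h4

end Cfsg.Agent.H745.TF
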