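import Cfsg.Agent.H745.TF.Stmts
import Cfsg.Agent.H802.FusBasic

/-!
# S5262, `q = 2`: `StQ2` from the two sides
-/

set_option autoImplicit false
set_option linter.dupNamespace false

namespace Cfsg.Agent.H745.TF

open Cfsg Cfsg.FusionSystem Cfsg.Agent.H756.PU Cfsg.Agent.H802

universe u v

/-- the B-side (helper213) -/
def StB2 : Prop :=
  ∀ {K : Type u} [Field K] {σ : K →+* K}, HypK σ 0 → ∀ {U : Type v} [Group U] (T : TF σ U)
    (Γb : Subgroup (MulAut T.QB)), T.Par T.QB Γb ⊥ →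
    ∃ θ : MulAut U, ∀ γ γ' : MulAut T.QB, IsCj θ γ γ' → (γ ∈ Γb ↔ γ' ∈ T.LamB)

/-- the A-side (helper483) -/
def StA2 : Prop :=
  ∀ {K : Type u} [Field K] {σ : K →+* K}, HypK σ 0 → ∀ {U : Type v} [Group U] (T : TF σ U)
    (Γa : Subgroup (MulAut T.QA)), T.Par T.QA Γa ⊥ →
    ∃ θ : MulAut U, (∀ γ γ' : MulAut T.QA, IsCj θ γ γ' → (γ ∈ Γa ↔ γ' ∈ T.LamA)) ∧
      (∀ γ γ' : MulAut T.QB, IsCj θ γ γ' → (γ ∈ T.LamB ↔ γ' ∈ T.LamB))

section

variable {U : Type v} [Group U]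

/-- the restriction of an automorphism of `U` to a characteristic subgroup -/
def rs (θ : MulAut U) {Q : Subgroup U} (hQ : ∀ α : MulAut U, Q.map α.toMonoidHom = Q) : MulAut Q :=
  have h1 : ∀ (α : MulAut U) (x : U), x ∈ Q → α x ∈ Q := fun α x hx => by
    have : α x ∈ Q.map α.toMonoidHom := ⟨x, hx, rfl⟩
    rwa [hQ] at this
  { toFun := fun x => ⟨θ x, h1 θ x x.2⟩
    invFun := fun x => ⟨θ⁻¹ x, h1 θ⁻¹ x x.2⟩
    left_inv := fun x => Subtype.ext (MulAut.inv_apply_self _ _ _)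
    right_inv := fun x => Subtype.ext (MulAut.apply_inv_self _ _ _)
    map_mul' := fun x y => Subtype.ext (map_mul θ _ _) }

variable {θ : MulAut U} {Q : Subgroup U} (hQ : ∀ α : MulAut U, Q.map α.toMonoidHom = Q)

theorem rs_apply (x : Q) : ((rs θ hQ x : Q) : U) = θ x := rfl

theorem isCj_iff {γ γ' : MulAut Q} : IsCj θ γ γ' ↔ γ' = rs θ hQ * γ * (rs θ hQ)⁻¹ := by
  constructor
  · intro h
    apply MulEquiv.ext
    intro e'
    obtain ⟨e, rfl⟩ := (rs θ hQ).surjective e'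
    have h1 := h e (rs θ hQ e) rfl
    apply Subtype.ext
    rw [h1, MulAut.mul_apply, MulAut.mul_apply, MulAut.inv_apply_self]
    rfl
  · rintro rfl e e' he
    have h2 : e' = rs θ hQ e := Subtype.ext he
    subst h2
    rw [MulAut.mul_apply, MulAut.mul_apply, MulAut.inv_apply_self]
    rfl

/-- `Aut_U(Q)` is invariant -/
theorem ind_inv {γ : MulAut Q} :
    rs θ hQ * γ * (rs θ hQ)⁻¹ ∈ autInducedBy (⊤ : Subgroup U) Q ↔ γ ∈ autInducedBy (⊤ : Subgroup U) Q := by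
  constructor
  · intro h
    obtain ⟨g, -, hg⟩ := (mem_autInducedBy_iff _ _ _).1 h
    refine (mem_autInducedBy_iff _ _ _).2 ⟨θ⁻¹ g, Subgroup.mem_top _, fun x => ?_⟩
    have h1 := hg (rs θ hQ x)
    rw [MulAut.mul_apply, MulAut.mul_apply, MulAut.inv_apply_self] at h1
    apply θ.injective
    have h2 : θ (γ x : Q) = g * θ x * g⁻¹ := h1
    rw [h2, map_mul, map_mul, map_inv, MulAut.apply_inv_self]
  · intro h
    obtain ⟨g, -, hg⟩ := (mem_autInducedBy_iff _ _ _).1 h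
    refine (mem_autInducedBy_iff _ _ _).2 ⟨θ g, Subgroup.mem_top _, fun x => ?_⟩
    obtain ⟨y, rfl⟩ := (rs θ hQ).surjective x
    rw [MulAut.mul_apply, MulAut.mul_apply, MulAut.inv_apply_self, rs_apply, rs_apply, hg, map_mul, map_mul, map_inv]

theorem norm_inv {γ : MulAut Q} (h : NormAut (⊤ : Subgroup U) (rs θ hQ * γ * (rs θ hQ)⁻¹)) :
    NormAut (⊤ : Subgroup U) γ := by
  intro x hx
  have h1 := h (rs θ hQ * x * (rs θ hQ)⁻¹) ((ind_inv hQ).2 hx)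
  have h2 : rs θ hQ * γ * (rs θ hQ)⁻¹ * (rs θ hQ * x * (rs θ hQ)⁻¹) * (rs θ hQ * γ * (rs θ hQ)⁻¹)⁻¹ =
      rs θ hQ * (γ * x * γ⁻¹) * (rs θ hQ)⁻¹ := by group
  rw [h2] at h1
  exact (ind_inv hQ).1 h1

theorem norm_fwd {γ : MulAut Q} (h : NormAut (⊤ : Subgroup U) γ) :
    NormAut (⊤ : Subgroup U) (rs θ hQ * γ * (rs θ hQ)⁻¹) := by
  intro x hx
  have h3 : x = rs θ hQ * ((rs θ hQ)⁻¹ * x * rs θ hQ) * (rs θ hQ)⁻¹ := by group
  have h1 := h ((rs θ hQ)⁻¹ * x * rs θ hQ) ((ind_inv hQ).1 (by rw [← h3]; exact hx))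
  have h2 : rs θ hQ * γ * (rs θ hQ)⁻¹ * x * (rs θ hQ * γ * (rs θ hQ)⁻¹)⁻¹ =
      rs θ hQ * (γ * ((rs θ hQ)⁻¹ * x * rs θ hQ) * γ⁻¹) * (rs θ hQ)⁻¹ := by group
  rw [h2]
  exact (ind_inv hQ).2 h1

variable {K : Type u} [Field K] {σ : K →+* K} (T : TF σ U)

theorem par_map {Γ : Subgroup (MulAut Q)} (h : T.Par Q Γ ⊥) :
    T.Par Q (Γ.map (MulAut.conj (rs θ hQ)).toMonoidHom) ⊥ where
  indu := by
    intro x hx
    have h3 : x = rs θ hQ * ((rs θ hQ)⁻¹ * x * rs θ hQ) * (rs θ hQ)⁻¹ := by group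
    refine ⟨(rs θ hQ)⁻¹ * x * rs θ hQ, h.indu ((ind_inv hQ).1 (by rw [← h3]; exact hx)), ?_⟩
    exact h3.symm
  syl := by
    intro P hP hPp
    let ψ : MulAut Q ≃* MulAut Q := MulAut.conj (rs θ hQ)
    have hP2 : P.map ψ.symm.toMonoidHom ≤ Γ := by
      rintro _ ⟨x, hx, rfl⟩
      obtain ⟨y, hy, rfl⟩ := hP hx
      show ψ.symm (ψ y) ∈ Γ
      rw [ψ.symm_apply_apply]; exact hy
    obtain ⟨g, hg, hgx⟩ := h.syl _ hP2 (hPp.map _)
    refine ⟨ψ g, ⟨g, hg, rfl⟩, fun x hx => ?_⟩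
    have h1 := hgx (ψ.symm x) ⟨x, hx, rfl⟩
    have h2 : ψ g * x * (ψ g)⁻¹ = ψ (g * ψ.symm x * g⁻¹) := by
      rw [map_mul, map_mul, map_inv, ψ.apply_symm_apply]
    rw [h2]
    exact (ind_inv hQ).2 h1
  nn := by
    intro h1
    apply h.nn
    intro γ hγ
    exact norm_inv hQ (h1 _ ⟨γ, hγ, rfl⟩)
  D_le := bot_le
  D_cop := h.D_cop
  D_res := by
    intro d hd γ hγ
    rw [Subgroup.mem_bot] at hd
    subst hd
    have : γ = 1 := by
      apply MulEquiv.ext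
      intro e
      exact Subtype.ext (hγ e)
    rw [this]
    exact one_mem _
  norm := by
    rintro _ ⟨γ, hγ, rfl⟩ h1
    obtain ⟨x, d, hd, hx⟩ := h.norm γ hγ (norm_inv hQ h1)
    rw [Subgroup.mem_bot] at hd
    subst hd
    refine ⟨θ x, 1, Subgroup.mem_bot.2 rfl, fun e => ?_⟩
    obtain ⟨y, rfl⟩ := (rs θ hQ).surjective e
    show ((rs θ hQ * γ * (rs θ hQ)⁻¹) (rs θ hQ y) : U) = _
    rw [MulAut.mul_apply, MulAut.mul_apply, MulAut.inv_apply_self, rs_apply, hx]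
    show θ (x * (y : U) * x⁻¹) = θ x * θ y * (θ x)⁻¹
    rw [map_mul, map_mul, map_inv]

end

/-- **`StQ2` from the two sides** -/
theorem stQ2_of (hTI : StTI.{u, v}) (hA : StA2.{u, v}) (hB : StB2.{u, v}) : StQ2.{u, v} := by
  intro K _ σ hK U _ T Γa Γb hPa hPb
  obtain ⟨θ1, h1⟩ := hB hK T Γb hPb
  have hQa := (hTI hK T T.QA (Or.inl rfl)).2.2.2
  have hQb := (hTI hK T T.QB (Or.inr rfl)).2.2.2
  obtain ⟨θ2, h2, h3⟩ := hA hK T _ (par_map (θ := θ1) hQa T hPa)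
  refine ⟨θ2 * θ1, fun γ γ'' h => ?_, fun γ γ'' h => ?_⟩
  · rw [← h2 (rs θ1 hQa * γ * (rs θ1 hQa)⁻¹) γ'' ?_]
    · constructor
      · intro hγ
        exact ⟨γ, hγ, rfl⟩
      · rintro ⟨δ, hδ, he⟩
        have : δ = γ := (MulAut.conj (rs θ1 hQa)).injective he
        rw [← this]; exact hδ
    · rw [isCj_iff hQa] at h ⊢
      rw [h]
      have : rs (θ2 * θ1) hQa = rs θ2 hQa * rs θ1 hQa := rfl
      rw [this]; group
  · rw [h1 γ (rs θ1 hQb * γ * (rs θ1 hQb)⁻¹) ((isCj_iff hQb).2 rfl)]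
    refine h3 _ _ ?_
    rw [isCj_iff hQb] at h ⊢
    rw [h]
    have : rs (θ2 * θ1) hQb = rs θ2 hQb * rs θ1 hQb := rfl
    rw [this]; group

end Cfsg.Agent.H745.TF
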