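import Cfsg.Agent.H745.TF.Asm
import Cfsg.Agent.H745.TF.EssAsm
import Cfsg.Agent.H745.TF.Q2
import Cfsg.Agent.H245.PU.Ess
import Cfsg.Agent.H546.PU.Constr
import Cfsg.Agent.H659.PU.Over
import Cfsg.Agent.H805.PU.Main
import Cfsg.Agent.H218.TE.Basic
import Cfsg.Agent.H218.TE.LCj
import Cfsg.Agent.H805.TF.Syl
import Cfsg.Agent.H805.TF.Ess1
import Cfsg.Agent.H491.TF.Main
import Cfsg.Agent.H491.TF.Exc
import Cfsg.Agent.H240.TF.Fin
import Cfsg.Agent.H240.TF.Ess4Fin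
import Cfsg.Agent.H240.TF.B2Fin
import Cfsg.Agent.H181.TF.TIFin
import Cfsg.Agent.H181.TF.TIB
import Cfsg.Agent.H181.TF.PosFin
import Cfsg.Agent.H628.TF.MixF
import Cfsg.Agent.H659.TF.Ess2
import Cfsg.Agent.H659.TF.Ess5c
import Cfsg.Agent.H659.TF.Ess6
import Cfsg.Agent.H752.TF.Inv
import Cfsg.Agent.H752.TF.Ess3
import Cfsg.Agent.H752.TF.Ess4c
import Cfsg.Agent.H772.TF.Ess5
import Cfsg.Agent.H587.TF.EssB

/-!
# S5262: the final assembly, with the parts of the engine which need S3083 as hypotheses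
-/

set_option autoImplicit false
set_option linter.dupNamespace false

namespace Cfsg.Agent.H745.TF

open Cfsg Cfsg.FusionSystem Cfsg.Agent.H756.PU Cfsg.Agent.H802.TE

universe u v

/-- the parts of the engine which rest on S3083, and what is missing -/
structure Rest : Prop where
  p2 : StP2.{v}
  bd : StBd.{v}
  secW : StSecW.{v}
  a2 : StA2.{u, v}

theorem stEssB (H : Rest.{u, v}) : Cfsg.Agent.H752.TF.StEssB.{u, v} := by
  intro K _ σ m hK U _ T R Γ hE hY hN hA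
  exact hA (Cfsg.Agent.H587.TF.essB hK T Cfsg.Agent.H218.TE.stPhi H.p2 Cfsg.Agent.H218.TE.stHull hE hY hN)

theorem essPieces_of (H : Rest.{u, v}) : EssPieces.{u, v} where
  ess := Cfsg.Agent.H245.PU.stEss
  ov := Cfsg.Agent.H659.PU.stOver
  grp := Cfsg.Agent.H805.TF.stGrp
  ti := Cfsg.Agent.H181.TF.stTI
  e1 := Cfsg.Agent.H805.TF.stEss1_of H.p2 Cfsg.Agent.H218.TE.stHull Cfsg.Agent.H218.TE.stConj
    H.bd Cfsg.Agent.H218.TE.stPhi Cfsg.Agent.H752.TF.stInv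
  e2 := Cfsg.Agent.H659.TF.Ess.stEss2_of H.p2 Cfsg.Agent.H218.TE.stHull Cfsg.Agent.H218.TE.stConj
    Cfsg.Agent.H752.TF.stInv Cfsg.Agent.H752.TF.stOrd
  e3 := Cfsg.Agent.H752.TF.stEss3_of H.p2 Cfsg.Agent.H218.TE.stHull Cfsg.Agent.H218.TE.stPhi
    H.secW (stEssB H)
  e4a := Cfsg.Agent.H240.TF.stEss4a
  e4b := Cfsg.Agent.H240.TF.stEss4b
  e4c := Cfsg.Agent.H752.TF.stEss4c
  e5a := Cfsg.Agent.H772.TF.stEss5a_of Cfsg.Agent.H218.TE.stPhi Cfsg.Agent.H218.TE.stHull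
  e5b := Cfsg.Agent.H772.TF.stEss5b_of Cfsg.Agent.H218.TE.stPhi H.p2 Cfsg.Agent.H218.TE.stHull
    Cfsg.Agent.H218.TE.stConj Cfsg.Agent.H752.TF.stInv
  e5c := Cfsg.Agent.H659.TF.Ess.stEss5c_of Cfsg.Agent.H218.TE.stCh
  e6a := Cfsg.Agent.H659.TF.Ess.stEss6a_of Cfsg.Agent.H218.TE.stHull Cfsg.Agent.H491.TF.Exc.stExc
  e6b := Cfsg.Agent.H659.TF.Ess.stEss6b_of Cfsg.Agent.H218.TE.stHull Cfsg.Agent.H218.TE.stPhi
    Cfsg.Agent.H491.TF.Exc.stExc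
  mixF := Cfsg.Agent.H628.TF.stMixF

theorem pieces_of (H : Rest.{u, v}) : Pieces.{u, v} where
  ess := Cfsg.Agent.H245.PU.stEss
  con := Cfsg.Agent.H546.PU.stCon
  same := Cfsg.Agent.H546.PU.stSame
  compl := Cfsg.Agent.H805.PU.stCompl
  grp := Cfsg.Agent.H805.TF.stGrp
  essTF := stEssTF_of (essPieces_of H)
  ti := Cfsg.Agent.H181.TF.stTI
  pos := Cfsg.Agent.H181.TF.stPos
  la1 := Cfsg.Agent.H240.TF.stLA1_of Cfsg.Agent.H181.TF.stTI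
  lb1 := Cfsg.Agent.H181.TF.stLB1
  la2 := Cfsg.Agent.H240.TF.stLA2_of Cfsg.Agent.H181.TF.stTI
  lb2 := Cfsg.Agent.H181.TF.stLB2
  real := Cfsg.Agent.H491.TF.stReal
  q2 := stQ2_of Cfsg.Agent.H181.TF.stTI H.a2 Cfsg.Agent.H240.TF.stB2

theorem final_rest (H : Rest.{v, v}) {Ω : Type u} [Group Ω] {S : Subgroup Ω} [Finite S] (F : Cfsg.FusionSystem S)
    (hF : F.IsSaturated 2) {K : Type v} [Field K] [Fintype K] (m : ℕ)
    (hK : Fintype.card K = 2 ^ (2 * m + 1)) (T : Sylow 2 ↥(Cfsg.Lie.twistedF4 K (2 ^ m)))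
    (e : ↥S ≃* ↥(T : Subgroup ↥(Cfsg.Lie.twistedF4 K (2 ^ m)))) : F.IsRealizable 2 :=
  final_of (pieces_of H) Cfsg.Agent.H805.PU.stTrans Cfsg.Agent.H805.TF.stSyl F hF m hK T e

end Cfsg.Agent.H745.TF
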