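import Cfsg.Agent.H745.TF.Stmts

/-!
# S5262: further statements (essential subgroups)
-/

set_option autoImplicit false
set_option linter.dupNamespace false

namespace Cfsg.Agent.H745.TF

open Cfsg Cfsg.FusionSystem Cfsg.Agent.Octagon.Pkg Cfsg.Agent.H756.PU

universe u v

/-- (MIX) the mixed case: text (i)-(v) of helper745 -/
def StMix : Prop :=
  ∀ {K : Type u} [Field K] {σ : K →+* K} {m : ℕ}, HypK σ m → ∀ {U : Type v} [Group U] (T : TF σ U)
    {R : Subgroup U} {Γ : Subgroup (MulAut R)}, Ess (⊤ : Subgroup U) R 2 Γ → Inv Γ T.Z4 → T.D ≤ R →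
    ¬ R ≤ T.QA → ¬ R ≤ T.QB → T.QA ≤ R ∧ Inv Γ T.QA

end Cfsg.Agent.H745.TF
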